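import Groth.Agent.PureClosedLib.Basic
import Mathlib.AlgebraicGeometry.Morphisms.UniversallyOpen

/-!
# Flat closed subschemes and closed subsets stable under generalization
-/

set_option autoImplicit false
set_option backward.isDefEq.respectTransparency false

universe u

open AlgebraicGeometry CategoryTheory TopologicalSpace
open Groth.Agent.FlatGenStable

namespace Groth.Agent.PureClosedLib

variable {X : Scheme.{u}}

theorem preimage_stableUnderGeneralization (Z : Closeds X) (hZ : StableUnderGeneralization (Z : Set X))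
    (U : X.affineOpens) :
    StableUnderGeneralization (PrimeSpectrum.zeroLocus (((Scheme.IdealSheafData.vanishingIdeal Z).ideal U : Ideal _) : Set Γ(X, U))) := by
  have h : PrimeSpectrum.zeroLocus (((Scheme.IdealSheafData.vanishingIdeal Z).ideal U : Ideal _) : Set Γ(X, U)) =
      U.2.fromSpec ⁻¹' (Z : Set X) := by
    rw [Scheme.IdealSheafData.vanishingIdeal_ideal, PrimeSpectrum.zeroLocus_vanishingIdeal_eq_closure]
    exact (Z.isClosed.preimage U.2.fromSpec.continuous).closure_eq
  rw [h]
  exact fun x y hxy hx => hZ (hxy.map U.2.fromSpec.continuous) hx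

/-- The pure ideal sheaf of a closed subset stable under generalization. -/
noncomputable def pureSheaf (Z : Closeds X) (hZ : StableUnderGeneralization (Z : Set X)) : X.IdealSheafData where
  ideal U := pureIdeal ((Scheme.IdealSheafData.vanishingIdeal Z).ideal U)
  map_ideal_basicOpen U f := by
    letI : Algebra Γ(X, U) Γ(X, X.affineBasicOpen f) :=
      (X.presheaf.map (homOfLE <| X.basicOpen_le f).op).hom.toAlgebra
    haveI : IsLocalization.Away f Γ(X, X.affineBasicOpen f) :=
      U.2.isLocalization_of_eq_basicOpen _ _ rfl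
    show (pureIdeal _).map (algebraMap Γ(X, U) Γ(X, X.affineBasicOpen f)) = _
    rw [map_pureIdeal f (preimage_stableUnderGeneralization Z hZ U)]
    exact congrArg pureIdeal ((Scheme.IdealSheafData.vanishingIdeal Z).map_ideal_basicOpen U f)

theorem flat_quotient_pureSheaf (Z : Closeds X) (hZ : StableUnderGeneralization (Z : Set X)) (U : X.affineOpens) :
    ((pureSheaf Z hZ).ideal U).Pure :=
  flat_quotient_pureIdeal rfl (preimage_stableUnderGeneralization Z hZ U)

theorem support_pureSheaf (Z : Closeds X) (hZ : StableUnderGeneralization (Z : Set X)) :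
    (pureSheaf Z hZ).support = Z := by
  ext x
  obtain ⟨_, ⟨U, hU, rfl⟩, hxU, -⟩ :=
    X.isBasis_affineOpens.exists_subset_of_mem_open (Set.mem_univ x) isOpen_univ
  show x ∈ (pureSheaf Z hZ).support ↔ x ∈ Z
  rw [Scheme.IdealSheafData.mem_support_iff_of_mem (U := ⟨U, hU⟩) hxU]
  have h1 : X.zeroLocus (U := U) ((pureSheaf Z hZ).ideal ⟨U, hU⟩ : Set Γ(X, U)) ∩ U =
      X.zeroLocus (U := U) ((Scheme.IdealSheafData.vanishingIdeal Z).ideal ⟨U, hU⟩ : Set Γ(X, U)) ∩ U := by
    rw [← hU.fromSpec_image_zeroLocus, ← hU.fromSpec_image_zeroLocus]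
    exact congrArg _ (zeroLocus_pureIdeal rfl (preimage_stableUnderGeneralization Z hZ ⟨U, hU⟩))
  have h2 : (x ∈ (Scheme.IdealSheafData.vanishingIdeal Z).support) ↔ x ∈ Z := by
    rw [← SetLike.mem_coe, Scheme.IdealSheafData.coe_support_vanishingIdeal]; rfl
  rw [← h2, Scheme.IdealSheafData.mem_support_iff_of_mem (U := ⟨U, hU⟩) hxU]
  have := Set.ext_iff.1 h1 x
  simp only [Set.mem_inter_iff, SetLike.mem_coe, hxU, and_true] at this
  exact this

theorem flat_subschemeι_iff (I : X.IdealSheafData) : Flat I.subschemeι ↔ ∀ U, (I.ideal U).Pure := by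
  constructor
  · intro h U
    have hq : (CommRingCat.ofHom (Ideal.Quotient.mk (I.ideal U))).hom.Flat := by
      rw [← Flat.SpecMap_iff]
      have hf : Flat (I.subschemeCover.f U ≫ I.subschemeι) := inferInstance
      rw [I.subschemeCover_map_subschemeι U, Scheme.IdealSheafData.glueDataObjι, Category.assoc,
        IsAffineOpen.isoSpec_inv_ι] at hf
      exact MorphismProperty.of_postcomp @Flat (W' := @IsOpenImmersion) _ U.2.fromSpec inferInstance hf
    exact hq
  · intro h
    refine IsZariskiLocalAtSource.of_openCover I.subschemeCover.openCover fun U => ?_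
    haveI : Flat (Spec.map (CommRingCat.ofHom (Ideal.Quotient.mk (I.ideal U)))) := Flat.SpecMap_iff.2 (h U)
    show Flat (I.subschemeCover.f U ≫ I.subschemeι)
    rw [I.subschemeCover_map_subschemeι U, Scheme.IdealSheafData.glueDataObjι, Category.assoc,
      IsAffineOpen.isoSpec_inv_ι]
    infer_instance

theorem eq_of_support_eq {I J : X.IdealSheafData} (hI : Flat I.subschemeι) (hJ : Flat J.subschemeι)
    (h : I.support = J.support) : I = J := by
  refine Scheme.IdealSheafData.ext (funext fun U => ?_)
  haveI := (flat_subschemeι_iff I).1 hI U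
  haveI := (flat_subschemeι_iff J).1 hJ U
  refine Ideal.zeroLocus_inj_of_pure.1 (U.2.fromSpec.isOpenEmbedding.injective.image_injective ?_)
  rw [U.2.fromSpec_image_zeroLocus, U.2.fromSpec_image_zeroLocus, ← I.coe_support_inter, ← J.coe_support_inter, h]

theorem stableUnderGeneralization_support {I : X.IdealSheafData} (hI : Flat I.subschemeι) :
    StableUnderGeneralization (I.support : Set X) := by
  rw [← I.range_subschemeι]
  exact (Flat.generalizingMap I.subschemeι).stableUnderGeneralization_range

theorem exists_factor {I : X.IdealSheafData} (hI : Flat I.subschemeι) {Y : Scheme.{u}} (g : Y ⟶ X)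
    (hg : Set.range g.base ⊆ (I.support : Set X)) : ∃ g' : Y ⟶ I.subscheme, g' ≫ I.subschemeι = g := by
  refine ⟨IsClosedImmersion.lift I.subschemeι g ?_, IsClosedImmersion.lift_fac _ _ _⟩
  rw [I.ker_subschemeι, Scheme.Hom.ker, Scheme.IdealSheafData.le_ofIdeals_iff]
  intro U x hx
  haveI := (flat_subschemeι_iff I).1 hI U
  obtain ⟨y, hy, hxy⟩ := Ideal.exists_eq_mul_of_pure hx
  show g.app U x = 0
  refine TopCat.Presheaf.section_ext Y.sheaf _ _ _ fun z hz => ?_
  show Y.presheaf.germ (g ⁻¹ᵁ U.1) z hz (g.app U x) = Y.presheaf.germ (g ⁻¹ᵁ U.1) z hz 0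
  have hny : z ∉ Y.basicOpen (g.app U y) := by
    rw [← Scheme.preimage_basicOpen]
    intro hz'
    have h1 := (Scheme.IdealSheafData.mem_support_iff_of_mem (U := U) hz).1 (hg ⟨z, rfl⟩)
    exact (Scheme.mem_zeroLocus_iff _ _ _).1 h1 y hy hz'
  rw [Scheme.mem_basicOpen _ _ _ hz] at hny
  have hu := IsLocalRing.isUnit_one_sub_self_of_mem_nonunits _ hny
  rw [map_zero, ← hu.mul_left_eq_zero, mul_sub, mul_one, ← map_mul, ← map_mul, ← hxy, sub_self]

end Groth.Agent.PureClosedLib
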