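import Groth.Agent.FlatGenStable.Basic

/-!
# Pure ideals of closed subsets stable under generalization: localization
-/

set_option autoImplicit false

universe u

namespace Groth.Agent.PureClosedLib

open FlatGenStable

variable {R R' : Type u} [CommRing R] [CommRing R'] [Algebra R R']

/-- The pure ideal of a generalization-stable `V(I)` commutes with localization at an element. -/
theorem map_pureIdeal {I : Ideal R} (f : R) [IsLocalization.Away f R']
    (hZ : StableUnderGeneralization (PrimeSpectrum.zeroLocus (I : Set R))) :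
    (pureIdeal I).map (algebraMap R R') = pureIdeal (I.map (algebraMap R R')) := by
  refine le_antisymm (Ideal.map_le_iff_le_comap.2 fun x hx => ?_) fun y hy => ?_
  · obtain ⟨i, hi, hix⟩ := mem_pureIdeal.1 hx
    exact mem_pureIdeal.2 ⟨_, Ideal.mem_map_of_mem _ hi, by rw [← map_mul, hix]⟩
  obtain ⟨⟨x, ⟨_, n, rfl⟩⟩, hxy⟩ := IsLocalization.surj (Submonoid.powers f) y
  obtain ⟨i', hi', hiy⟩ := mem_pureIdeal.1 hy
  have hi'x : i' * algebraMap R R' x = algebraMap R R' x := by
    rw [← hxy, ← mul_assoc, hiy]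
  let J : Ideal R :=
    { carrier := {s | ∃ k : ℕ, s * (f ^ k * x) = 0}
      zero_mem' := ⟨0, zero_mul _⟩
      add_mem' := by
        rintro a b ⟨k, hk⟩ ⟨l, hl⟩
        exact ⟨k + l, by linear_combination f ^ l * hk + f ^ k * hl⟩
      smul_mem' := by
        rintro c a ⟨k, hk⟩
        exact ⟨k, by rw [smul_eq_mul]; linear_combination c * hk⟩ }
  have hJI : J ⊔ I = ⊤ := by
    by_contra hne
    obtain ⟨m, hm, hle⟩ := Ideal.exists_le_maximal _ hne
    let p : PrimeSpectrum R := ⟨m, hm.isPrime⟩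
    let T : Submonoid R :=
      { carrier := {a | ∃ s, s ∉ m ∧ ∃ k : ℕ, a = s * f ^ k}
        one_mem' := ⟨1, fun h => hm.ne_top ((Ideal.eq_top_iff_one _).2 h), 0, by simp⟩
        mul_mem' := by
          rintro a b ⟨s, hs, k, rfl⟩ ⟨t, ht, l, rfl⟩
          exact ⟨s * t, fun h => (hm.isPrime.mem_or_mem h).elim hs ht, k + l, by ring⟩ }
    let A : Ideal R := LinearMap.ker (LinearMap.toSpanSingleton R R x)
    have hA : ∀ a, a ∈ A ↔ a * x = 0 := fun a => Iff.rfl
    have hd : Disjoint (A : Set R) (T : Set R) := by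
      rw [Set.disjoint_left]
      rintro a ha ⟨s, hs, k, rfl⟩
      refine hs (hle (Ideal.mem_sup_left ⟨k, ?_⟩))
      rw [← mul_assoc]
      exact (hA _).1 ha
    obtain ⟨q, hq, hAq, hqT⟩ := Ideal.exists_le_prime_disjoint A T hd
    have hqm : q ≤ m := fun a ha => by
      by_contra h
      exact Set.disjoint_left.1 hqT ha ⟨a, h, 0, by simp⟩
    have hfq : f ∉ q := fun h => Set.disjoint_left.1 hqT h
      ⟨1, fun h => hm.ne_top ((Ideal.eq_top_iff_one _).2 h), 1, by simp⟩
    have hIq : I ≤ q := hZ (x := p) (y := ⟨q, hq⟩)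
      ((PrimeSpectrum.le_iff_specializes ⟨q, hq⟩ p).1 hqm) ((le_sup_right.trans hle : I ≤ m))
    have hdisj : Disjoint (Submonoid.powers f : Set R) q := Set.disjoint_left.2 fun r hr hrq => by
      obtain ⟨k, rfl⟩ := hr
      exact hfq (hq.mem_of_pow_mem k hrq)
    have hP := IsLocalization.isPrime_of_isPrime_disjoint (Submonoid.powers f) R' q hq hdisj
    have hcm := IsLocalization.comap_map_of_isPrime_disjoint (Submonoid.powers f) R' hq hdisj
    obtain ⟨s, hs, hsx⟩ := exists_mul_eq_zero_of_mem (p := ⟨q.map (algebraMap R R'), hP⟩)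
      (show I.map (algebraMap R R') ≤ q.map (algebraMap R R') from Ideal.map_mono hIq)
      (mem_pureIdeal.2 ⟨i', hi', hi'x⟩)
    obtain ⟨⟨a, ⟨_, l, rfl⟩⟩, hal⟩ := IsLocalization.surj (Submonoid.powers f) s
    have ha : a ∉ q := fun haq => by
      refine hs ?_
      have h1 : algebraMap R R' a ∈ q.map (algebraMap R R') := Ideal.mem_map_of_mem _ haq
      rw [← hal] at h1
      exact (hP.mem_or_mem h1).resolve_right fun h2 =>
        hP.ne_top (Ideal.eq_top_of_isUnit_mem _ h2 (IsLocalization.map_units R' (⟨_, l, rfl⟩ : Submonoid.powers f)))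
    obtain ⟨⟨_, k, rfl⟩, hk⟩ := (IsLocalization.map_eq_zero_iff (Submonoid.powers f) R' (a * x)).1 (by
      rw [map_mul, ← hal]
      linear_combination algebraMap R R' (f ^ l) * hsx)
    refine (hq.mem_or_mem (hAq ((hA (f ^ k * a)).2 ?_))).elim (fun h => hfq (hq.mem_of_pow_mem k h)) ha
    rw [mul_assoc]
    exact hk
  obtain ⟨s, ⟨k, hk⟩, i, hi, hsi⟩ := Submodule.mem_sup.1 ((Ideal.eq_top_iff_one _).1 hJI)
  have hmem : f ^ k * x ∈ pureIdeal I := mem_pureIdeal.2 ⟨i, hi, by linear_combination (f ^ k * x) * hsi - hk⟩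
  have hu : IsUnit (algebraMap R R' (f ^ (n + k))) := IsLocalization.map_units R' (⟨_, n + k, rfl⟩ : Submonoid.powers f)
  have he : algebraMap R R' (f ^ (n + k)) * y = algebraMap R R' (f ^ k * x) := by
    rw [map_mul _ (f ^ k) x, ← hxy, pow_add, map_mul]
    ring
  have h2 := Ideal.mem_map_of_mem (algebraMap R R') hmem
  rw [← he] at h2
  exact (Ideal.unit_mul_mem_iff_mem _ hu).1 h2

end Groth.Agent.PureClosedLib
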