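import Groth.Agent.PureClosedLib.Scheme
import Groth.Agent.PullbackMod.FibreRank
import Groth.Agent.QCohLib.Push
import Groth.Agent.QCohLib.FiniteType

/-!
# Finite type flat quasi-coherent modules and closed subsets stable under generalization
-/

set_option autoImplicit false
set_option backward.isDefEq.respectTransparency false
set_option linter.style.haveILetI false

universe u

open AlgebraicGeometry CategoryTheory TopologicalSpace
open Groth.Agent.FlatGenStable
open scoped TensorProduct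

namespace Groth.Agent.PureClosedLib

variable {X : Scheme.{u}}

theorem isFinLocFree_of_open (H : ∀ Z : Set X, IsClosed Z → StableUnderGeneralization Z → IsOpen Z)
    (F : X.Modules) [Coh.IsQCoh F] (hFT : CohB1.IsFT F) (hfl : FlatMod.IsFlat F) : FlatMod.IsFinLocFree F := by
  have hrk : ∀ {W : X.Opens} (hW : IsAffineOpen W),
      Module.rankAtStalk (R := Γ(X, W)) Γ(F, W) = fun p => PullbackMod.fibreRank F (hW.fromSpec p) := by
    intro W hW
    haveI := QCohLib.finite_sections F hFT hW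
    haveI := PullbackMod.flat_sections_of_flat_stalks F hW hfl
    exact funext fun p => (Module.rankAtStalk_eq p).trans (PullbackMod.fibreRank_fromSpec F hW p)
  have hle : ∀ n, IsOpen {x : X | PullbackMod.fibreRank F x ≤ n} := fun n => by
    refine isOpen_iff_forall_mem_open.2 fun x hx => ?_
    obtain ⟨_, ⟨W : X.Opens, hW, rfl⟩, hxW, -⟩ :=
      X.isBasis_affineOpens.exists_subset_of_mem_open (Set.mem_univ x) isOpen_univ
    haveI := QCohLib.finite_sections F hFT hW
    haveI := PullbackMod.flat_sections_of_flat_stalks F hW hfl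
    refine ⟨hW.fromSpec '' {p | Module.rankAtStalk Γ(F, W) p ≤ n}, ?_,
      hW.fromSpec.isOpenEmbedding.isOpenMap _ (isOpen_rankAtStalk_le n), ?_⟩
    · rintro _ ⟨p, hp, rfl⟩
      rw [Set.mem_ofPred_eq, hrk hW] at hp
      exact hp
    · obtain ⟨p, rfl⟩ : x ∈ Set.range hW.fromSpec := by rw [hW.range_fromSpec]; exact hxW
      exact ⟨p, by rw [Set.mem_ofPred_eq, hrk hW]; exact hx, rfl⟩
  have hge : ∀ n, IsOpen {x : X | n ≤ PullbackMod.fibreRank F x} := by
    rintro (_ | n)
    · simp
    refine H _ ?_ fun x y hxy hx => ?_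
    · have he : {x : X | n + 1 ≤ PullbackMod.fibreRank F x} = {x : X | PullbackMod.fibreRank F x ≤ n}ᶜ := by
        ext x; simp
      rw [he]
      exact (hle n).isClosed_compl
    obtain ⟨_, ⟨W : X.Opens, hW, rfl⟩, hxW, -⟩ :=
      X.isBasis_affineOpens.exists_subset_of_mem_open (Set.mem_univ x) isOpen_univ
    haveI := QCohLib.finite_sections F hFT hW
    haveI := PullbackMod.flat_sections_of_flat_stalks F hW hfl
    obtain ⟨p, rfl⟩ : x ∈ Set.range hW.fromSpec := by rw [hW.range_fromSpec]; exact hxW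
    obtain ⟨q, rfl⟩ : y ∈ Set.range hW.fromSpec := by rw [hW.range_fromSpec]; exact hxy.mem_open W.2 hxW
    have h := stableUnderGeneralization_rankAtStalk (M := Γ(F, W)) (n + 1)
      (hW.fromSpec.isOpenEmbedding.isInducing.specializes_iff.1 hxy)
      (show n + 1 ≤ Module.rankAtStalk Γ(F, W) p by rw [hrk hW]; exact hx)
    rw [Set.mem_ofPred_eq, hrk hW] at h
    exact h
  have hlc : IsLocallyConstant (PullbackMod.fibreRank F) := by
    rw [IsLocallyConstant.iff_isOpen_fiber]
    intro n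
    have he : PullbackMod.fibreRank F ⁻¹' {n} =
        {x | PullbackMod.fibreRank F x ≤ n} ∩ {x | n ≤ PullbackMod.fibreRank F x} := by
      ext x; simp [le_antisymm_iff]
    rw [he]
    exact (hle n).inter (hge n)
  refine PullbackMod.isFinLocFree_of_forall_affine F fun {W} hW => ?_
  haveI := QCohLib.finite_sections F hFT hW
  haveI := PullbackMod.flat_sections_of_flat_stalks F hW hfl
  refine ⟨inferInstance, projective_of_isLocallyConstant ?_⟩
  rw [hrk hW]
  exact hlc.comp_continuous hW.fromSpec.continuous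

theorem isOpen_of_isFinLocFree
    (H : ∀ F : X.Modules, Coh.IsQCoh F → CohB1.IsFT F → FlatMod.IsFlat F → FlatMod.IsFinLocFree F)
    (Z : Set X) (hc : IsClosed Z) (hg : StableUnderGeneralization Z) : IsOpen Z := by
  let I := pureSheaf ⟨Z, hc⟩ hg
  let i := I.subschemeι
  haveI hflat : Flat i := (flat_subschemeι_iff I).2 (flat_quotient_pureSheaf ⟨Z, hc⟩ hg)
  let F : X.Modules := (Scheme.Modules.pushforward i).obj (Coh.structureModule I.subscheme)
  haveI hq : Coh.IsQCoh F := QCohLib.isQCoh_pushforward (Coh.structureModule I.subscheme) i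
  have hequiv : ∀ U : X.affineOpens, Nonempty ((Γ(X, U) ⧸ I.ideal U) ≃ₗ[Γ(X, U)] Γ(F, U)) := fun U => by
    let one : Γ(F, U) := (1 : Γ(I.subscheme, i ⁻¹ᵁ U.1))
    let L : Γ(X, U) →ₗ[Γ(X, U)] Γ(F, U) := LinearMap.toSpanSingleton Γ(X, U) Γ(F, U) one
    have hL : ∀ r, L r = (i.app U.1 r : Γ(I.subscheme, i ⁻¹ᵁ U.1)) := fun r => by
      show (i.app U.1 r : Γ(I.subscheme, i ⁻¹ᵁ U.1)) * 1 = _
      rw [mul_one]
    have hs : Function.Surjective L := fun z => by
      obtain ⟨r, hr⟩ := I.subschemeι_app_surjective U z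
      exact ⟨r, (hL r).trans hr⟩
    have hk : LinearMap.ker L = I.ideal U := by
      rw [← I.ker_subschemeι_app U]
      ext r
      rw [LinearMap.mem_ker, hL, RingHom.mem_ker]
    exact ⟨(Submodule.quotEquivOfEq _ _ hk.symm).trans (L.quotKerEquivOfSurjective hs)⟩
  have hft : CohB1.IsFT F := QCohLib.isFiniteType_of_finite F (fun U : X.affineOpens => U.1) (fun U => U.2)
    (iSup_affineOpens_eq_top X) fun U => Module.Finite.equiv (hequiv U).some
  have hfl : FlatMod.IsFlat F := fun x => by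
    obtain ⟨_, ⟨V : X.Opens, (hV : IsAffineOpen V), rfl⟩, hxV, -⟩ :=
      X.isBasis_affineOpens.exists_subset_of_mem_open (Set.mem_univ x) isOpen_univ
    haveI : Module.Flat Γ(X, V) (Γ(X, V) ⧸ I.ideal ⟨V, hV⟩) := flat_quotient_pureSheaf ⟨Z, hc⟩ hg ⟨V, hV⟩
    haveI : Module.Flat Γ(X, V) Γ(F, V) := Module.Flat.of_linearEquiv (hequiv ⟨V, hV⟩).some.symm
    letI := Module.compHom (F.presheaf.stalk x) (X.presheaf.germ V x hxV).hom
    haveI := FlatLocus.isLocalizedModule_germL F hV x hxV
    letI : Algebra Γ(X, V) (X.presheaf.stalk x) :=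
      TopCat.Presheaf.algebra_section_stalk X.presheaf ⟨x, hxV⟩
    haveI := hV.isLocalization_stalk ⟨x, hxV⟩
    haveI : IsScalarTower Γ(X, V) (X.presheaf.stalk x) (F.presheaf.stalk x) :=
      .of_algebraMap_smul fun _ _ => rfl
    exact Module.Flat.of_linearEquiv
      (IsLocalizedModule.isBaseChange (hV.primeIdealOf ⟨x, hxV⟩).asIdeal.primeCompl
        (X.presheaf.stalk x) (FlatLocus.germL F V x hxV)).equiv.symm
  have hlc := PullbackMod.isFinLocFree_isLocallyConstant F (H F hq hft hfl)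
  have hZ : Z = {x : X | PullbackMod.fibreRank F x = 0}ᶜ := by
    ext x
    obtain ⟨_, ⟨W : X.Opens, hW, rfl⟩, hxW, -⟩ :=
      X.isBasis_affineOpens.exists_subset_of_mem_open (Set.mem_univ x) isOpen_univ
    haveI : Module.Flat Γ(X, W) (Γ(X, W) ⧸ I.ideal ⟨W, hW⟩) := flat_quotient_pureSheaf ⟨Z, hc⟩ hg ⟨W, hW⟩
    haveI : Module.Flat Γ(X, W) Γ(F, W) := Module.Flat.of_linearEquiv (hequiv ⟨W, hW⟩).some.symm
    haveI : Module.Finite Γ(X, W) Γ(F, W) := Module.Finite.equiv (hequiv ⟨W, hW⟩).some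
    obtain ⟨p, rfl⟩ : x ∈ Set.range hW.fromSpec := by rw [hW.range_fromSpec]; exact hxW
    rw [Set.mem_compl_iff, Set.mem_ofPred_eq, ← PullbackMod.fibreRank_fromSpec F hW p, ← Module.rankAtStalk_eq,
      Module.rankAtStalk_eq_zero_iff_notMem_support, not_not, ← (hequiv ⟨W, hW⟩).some.support_eq,
      Module.support_eq_zeroLocus, Ideal.annihilator_quotient,
      show PrimeSpectrum.zeroLocus (I.ideal ⟨W, hW⟩ : Set Γ(X, W)) = hW.fromSpec ⁻¹' Z from ?_]
    · exact Iff.rfl
    · rw [show (hW.fromSpec ⁻¹' Z) = hW.fromSpec ⁻¹' (I.support : Set X) from by rw [support_pureSheaf]; rfl,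
        ← Set.preimage_image_eq (PrimeSpectrum.zeroLocus (I.ideal ⟨W, hW⟩ : Set Γ(X, W))) hW.fromSpec.isOpenEmbedding.injective,
        hW.fromSpec_image_zeroLocus, ← I.coe_support_inter ⟨W, hW⟩]
      ext q
      simp only [Set.mem_preimage, Set.mem_inter_iff, and_iff_left_iff_imp]
      intro _
      exact hW.range_fromSpec.le ⟨q, rfl⟩
  rw [hZ]
  exact (hlc.isClosed_fiber 0).isOpen_compl

end Groth.Agent.PureClosedLib
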